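import Mathlib
import Cfsg.Agent.Helper29.OC2K.Final

set_option autoImplicit false
set_option linter.unusedSectionVars false
set_option linter.unusedVariables false

/-! # S5694, chapter CHAR2, route C2R (designer helper27): definitions.

Characteristic 2, vocabulary of helper29's port `Cfsg.Agent.Helper29.OC2K.*` (`HD Q k D`, `HS D`, `StabO D`, `Pure D x`,
`G1 M D`, `Rad M u hu`, `cmp D c`).  In characteristic 2 every product of two reflections lies in `Ω = S Q`, so
`r_p r_p' ∈ HS D` for all pure nonsingular `p, p'`.  `Rel M a a'` : `r_a r_a' ∈ M`. -/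

namespace Cfsg.Agent.OC2K

open Matrix Cfsg.Agent.Helper28.Sg Cfsg.Agent.Helper28.Spin Cfsg.Agent.Helper12.OrthGen
  Cfsg.Agent.S2614 Cfsg.Agent.S5683P Cfsg.Agent.Helper28.NDM

variable {F : Type*} [Field F] {t : ℕ} {ι : Type} [Fintype ι] [DecidableEq ι] {Q : QuadraticForm F (ι → F)}

namespace C2R

/-- `a ≈ a'`: the product of the reflections in the nonsingular vectors `a`, `a'` lies in `M` -/
def Rel (M : Subgroup (OGq Q)) (a a' : ι → F) : Prop :=
  ∃ (ha : Q a ≠ 0) (ha' : Q a' ≠ 0), reflO Q a ha * reflO Q a' ha' ∈ M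

/-- some NON-pure nonsingular vector is related to a pure one -/
def ClsA (M : Subgroup (OGq Q)) (D : Fin t → Submodule F (ι → F)) : Prop :=
  ∃ a p : ι → F, ¬ Pure D a ∧ Pure D p ∧ Rel M a p

/-- enough nonsingular vectors: for every singular `u ≠ 0` of a block there are nonsingular `p, p'` of the same block,
perpendicular to `u`, with `p' ∉ {p, p + u}` (fails exactly for blocks `O_4^+(2)`) -/
def NS3 (Q : QuadraticForm F (ι → F)) (D : Fin t → Submodule F (ι → F)) : Prop :=
  ∀ c, ∀ u ∈ D c, u ≠ 0 → Q u = 0 → ∃ p ∈ D c, ∃ p' ∈ D c,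
    Q p ≠ 0 ∧ Q p' ≠ 0 ∧ B Q u p = 0 ∧ B Q u p' = 0 ∧ p' ≠ p ∧ p' ≠ p + u

/-- Witt index 1 blocks: two perpendicular singular vectors of a block are proportional -/
def Witt1 (Q : QuadraticForm F (ι → F)) (D : Fin t → Submodule F (ι → F)) : Prop :=
  ∀ c, ∀ x ∈ D c, ∀ y ∈ D c, Q x = 0 → Q y = 0 → B Q x y = 0 → x ≠ 0 → ∃ s : F, y = s • x

end C2R

end Cfsg.Agent.OC2K
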